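import Groth.Agent.MTQuot.Diag

/-!
# A subgroup of prime order of a diagonalisable group
-/

set_option autoImplicit false
set_option linter.style.haveILetI false
set_option backward.isDefEq.respectTransparency false
set_option maxHeartbeats 1000000
set_option synthInstance.maxHeartbeats 400000

universe u

open CategoryTheory Limits MonoidalCategory CartesianMonoidalCategory AlgebraicGeometry WithConv
open scoped CategoryTheory.Obj MonObj

noncomputable section

namespace Groth.Agent.MTPrime

open Groth.Agent.MTBridge Groth.Agent.HomDiag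

variable {S : Scheme.{u}} {M N : Type} [AddCommGroup M] [AddCommGroup N]

theorem isClosedImmersion_of_surjective (θ : N →+ M) (hθ : Function.Surjective θ) :
    IsClosedImmersion (Red.DSmap S θ).left := by
  let Z := ULift.{u} ℤ
  let φ := (MonoidAlgebra.mapDomainAlgHom Z Z (AddMonoidHom.toMultiplicative θ)).toRingHom
  have hsurj : Function.Surjective φ := fun x => by
    induction x using MonoidAlgebra.induction_on with
    | of m =>
      obtain ⟨n, hn⟩ := hθ m.toAdd
      refine ⟨MonoidAlgebra.of Z _ (Multiplicative.ofAdd n), ?_⟩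
      simp [φ, hn]
    | add a b ha hb =>
      obtain ⟨a, rfl⟩ := ha
      obtain ⟨b, rfl⟩ := hb
      exact ⟨a + b, map_add φ a b⟩
    | smul r a ha =>
      obtain ⟨a, rfl⟩ := ha
      exact ⟨r • a, map_smul (MonoidAlgebra.mapDomainAlgHom Z Z (AddMonoidHom.toMultiplicative θ)) r a⟩
  let g := Spec.map (CommRingCat.ofHom φ)
  haveI : IsClosedImmersion g := IsClosedImmersion.spec_of_surjective _ hsurj
  have sq : IsPullback (pullback.fst (Red.diag Z M).hom (Limits.IsTerminal.from specULiftZIsTerminal S))
      (Red.DSmap S θ).left g (pullback.fst (Red.diag Z N).hom (Limits.IsTerminal.from specULiftZIsTerminal S)) := by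
    have h1 : pullback.fst (Red.diag Z M).hom (Limits.IsTerminal.from specULiftZIsTerminal S) ≫ g =
        (Red.DSmap S θ).left ≫ pullback.fst _ _ := by
      simp [Red.DSmap, g, φ, Red.diagMap]
      rfl
    refine IsPullback.of_bot ?_ h1 (IsPullback.of_hasPullback _ _)
    rw [show (Red.DSmap S θ).left ≫ pullback.snd _ _ = pullback.snd _ _ from Over.w (Red.DSmap S θ),
      show g ≫ (Red.diag Z N).hom = (Red.diag Z M).hom from Over.w (Red.diagMap Z θ)]
    exact IsPullback.of_hasPullback _ _
  exact MorphismProperty.of_isPullback sq inferInstance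

/-- A nontrivial finitely generated group maps onto a group of prime order. -/
theorem exists_prime_quot [hM : AddGroup.FG M] [Nontrivial M] :
    ∃ (r : ℕ) (_ : r.Prime) (θ : M →+ ZMod r), Function.Surjective θ := by
  haveI : Module.Finite ℤ M := Module.Finite.iff_addGroup_fg.2 hM
  obtain ⟨p, hp, -⟩ := (eq_top_or_exists_le_coatom (⊥ : Submodule ℤ M)).resolve_left bot_ne_top
  haveI : IsSimpleModule ℤ (M ⧸ p) := isSimpleModule_iff_isCoatom.2 hp
  obtain ⟨I, hI, ⟨e⟩⟩ := (isSimpleModule_iff_quot_maximal (R := ℤ) (M := M ⧸ p)).1 inferInstance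
  obtain ⟨a, rfl⟩ := (inferInstance : I.IsPrincipal)
  have hspan : Ideal.span ({((a.natAbs : ℕ) : ℤ)} : Set ℤ) = Ideal.span {a} :=
    Ideal.span_singleton_eq_span_singleton.2 (Int.associated_natAbs a).symm
  have hne : a ≠ 0 := fun h => by
    subst h
    refine Int.not_isField (Ring.isField_iff_isSimpleOrder_ideal.2 ?_)
    have := hI.out
    rw [show (Submodule.span ℤ ({0} : Set ℤ)) = (⊥ : Ideal ℤ) from Submodule.span_zero_singleton _] at this
    exact isSimpleOrder_iff_isCoatom_bot.2 this
  have hprime : (a.natAbs).Prime := by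
    have h1 : (Ideal.span ({a} : Set ℤ)).IsPrime := hI.isPrime
    exact Int.prime_iff_natAbs_prime.1 ((Ideal.span_singleton_prime hne).1 h1)
  let σ : (M ⧸ p) ≃+ ZMod a.natAbs := e.toAddEquiv.trans
    ((Ideal.quotEquivOfEq hspan.symm).toAddEquiv.trans (Int.quotientSpanNatEquivZMod a.natAbs).toAddEquiv)
  exact ⟨_, hprime, σ.toAddMonoidHom.comp p.mkQ.toAddMonoidHom, σ.surjective.comp p.mkQ_surjective⟩

/-- **S5427.** -/
theorem exists_mu_prime (S : Scheme.{u}) (M : Type) [AddCommGroup M] [AddGroup.FG M] [Nontrivial M] :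
    ∃ (r : ℕ) (_ : r.Prime) (j : Red.DS S (ZMod r) ⟶ Red.DS S M), IsMonHom j ∧ IsClosedImmersion j.left := by
  obtain ⟨r, hr, θ, hθ⟩ := exists_prime_quot (M := M)
  exact ⟨r, hr, Red.DSmap S θ, MTQuot.isMonHom_DSmap θ, isClosedImmersion_of_surjective θ hθ⟩

end Groth.Agent.MTPrime
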